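import Groth.Agent.Lib.Modules.GenStalk
import Groth.Agent.Lib.CohBasics.Affine
import Groth.Agent.Lib.CechRes.PullSec
import Groth.Agent.Lib.QCoh.Pullback
import Groth.Agent.Lib.ZarCoh.FlatBC.PullbackSections
import Mathlib.AlgebraicGeometry.Sites.Fpqc
import Mathlib.RingTheory.Flat.FaithfullyFlat.Basic
import Mathlib.RingTheory.LocalRing.Module
import Mathlib.LinearAlgebra.Dimension.StrongRankCondition

/-!
Generation by finitely many sections descends along fpqc coverings.
-/

set_option autoImplicit false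
set_option linter.style.haveILetI false

universe u v

open CategoryTheory CategoryTheory.Limits AlgebraicGeometry Opposite TopologicalSpace
open scoped TensorProduct

namespace Groth.Agent.Lib.GenDesc51

open Groth.Agent.Lib Groth.Agent.Lib.Modules

section Algebra

variable {A B : Type u} [CommRing A] [CommRing B] [Algebra A B] {M : Type v} [AddCommGroup M] [Module A M]

/-- Finitely many elements generate a finite base change. -/
theorem exists_gens_of_finite_baseChange [Module.Finite B (B ⊗[A] M)] :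
    ∃ s : Finset M, Submodule.span B ((fun m => (1 : B) ⊗ₜ[A] m) '' (s : Set M)) = ⊤ := by
  classical
  obtain ⟨T, hT⟩ := (Module.Finite.fg_top (R := B) (M := B ⊗[A] M))
  have h : ∀ w : B ⊗[A] M, ∃ s : Finset M,
      w ∈ Submodule.span B ((fun m => (1 : B) ⊗ₜ[A] m) '' (s : Set M)) := by
    intro w
    induction w using TensorProduct.induction_on with
    | zero => exact ⟨∅, zero_mem _⟩
    | tmul b m =>
      refine ⟨{m}, ?_⟩
      rw [show b ⊗ₜ[A] m = b • ((1 : B) ⊗ₜ[A] m) by rw [TensorProduct.smul_tmul', smul_eq_mul, mul_one]]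
      exact Submodule.smul_mem _ _ (Submodule.subset_span ⟨m, by simp, rfl⟩)
    | add a b ha hb =>
      obtain ⟨sa, ha⟩ := ha
      obtain ⟨sb, hb⟩ := hb
      exact ⟨sa ∪ sb, add_mem (Submodule.span_mono (Set.image_mono (by simp)) ha)
        (Submodule.span_mono (Set.image_mono (by simp)) hb)⟩
  choose s hs using h
  refine ⟨T.biUnion s, eq_top_iff.2 (hT ▸ Submodule.span_le.2 fun w hw => ?_)⟩
  exact Submodule.span_mono (Set.image_mono (fun m hm => Finset.mem_biUnion.2 ⟨w, hw, hm⟩)) (hs w)

/-- A generating family of a faithfully flat base change generates. -/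
theorem span_eq_top_of_faithfullyFlat [Module.FaithfullyFlat A B] (S : Set M)
    (h : Submodule.span B ((fun m => (1 : B) ⊗ₜ[A] m) '' S) = ⊤) : Submodule.span A S = ⊤ := by
  have hz : ∀ w : B ⊗[A] M, LinearMap.baseChange B (Submodule.span A S).mkQ w = 0 := by
    intro w
    have hw : w ∈ Submodule.span B ((fun m => (1 : B) ⊗ₜ[A] m) '' S) := h ▸ Submodule.mem_top
    induction hw using Submodule.span_induction with
    | mem _ hx =>
      obtain ⟨m, hm, rfl⟩ := hx
      rw [LinearMap.baseChange_tmul, Submodule.mkQ_apply,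
        (Submodule.Quotient.mk_eq_zero _).2 (Submodule.subset_span hm), TensorProduct.tmul_zero]
    | zero => exact map_zero _
    | add _ _ _ _ h1 h2 => rw [map_add, h1, h2, add_zero]
    | smul b _ _ h1 => rw [map_smul, h1, smul_zero]
  haveI : Subsingleton (B ⊗[A] (M ⧸ Submodule.span A S)) := subsingleton_of_forall_eq 0 fun q => by
    obtain ⟨w, rfl⟩ := LinearMap.lTensor_surjective B (Submodule.span A S).mkQ_surjective q
    exact hz w
  haveI := (Module.FaithfullyFlat.subsingleton_tensorProduct_iff_right A B).1 this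
  exact Submodule.Quotient.subsingleton_iff.1 this

/-- Over local rings the number of generators may be computed after a local extension. -/
theorem exists_gens_le [IsLocalRing A] [IsLocalRing B] [IsLocalHom (algebraMap A B)] [Module.Finite A M]
    {r : ℕ} (w : Fin r → B ⊗[A] M) (hw : Submodule.span B (Set.range w) = ⊤) :
    ∃ (d : ℕ) (v : Fin d → M), d ≤ r ∧ Submodule.span A (Set.range v) = ⊤ := by
  let k := IsLocalRing.ResidueField A
  let K := IsLocalRing.ResidueField B
  let b := Module.finBasis k (k ⊗[A] M)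
  choose v hv using fun i => TensorProduct.mk_surjective A M k Ideal.Quotient.mk_surjective (b i)
  refine ⟨_, v, ?_, IsLocalRing.span_eq_top_of_tmul_eq_basis v b hv⟩
  let e₁ : K ⊗[k] (k ⊗[A] M) ≃ₗ[K] K ⊗[A] M :=
    TensorProduct.AlgebraTensorModule.cancelBaseChange A k K K M
  let e₂ : K ⊗[B] (B ⊗[A] M) ≃ₗ[K] K ⊗[A] M :=
    TensorProduct.AlgebraTensorModule.cancelBaseChange A B K K M
  have h1 : Submodule.span K (Set.range fun i => e₂ (1 ⊗ₜ w i)) = ⊤ := by
    rw [Submodule.eq_top_iff']
    intro z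
    obtain ⟨z, rfl⟩ := e₂.surjective z
    obtain ⟨y, rfl⟩ := TensorProduct.mk_surjective B (B ⊗[A] M) K Ideal.Quotient.mk_surjective z
    have hy : y ∈ Submodule.span B (Set.range w) := hw ▸ Submodule.mem_top
    induction hy using Submodule.span_induction with
    | mem _ hx =>
      obtain ⟨i, rfl⟩ := hx
      exact Submodule.subset_span ⟨i, rfl⟩
    | zero => rw [map_zero, map_zero]; exact zero_mem _
    | add _ _ _ _ h1 h2 => rw [map_add, map_add]; exact add_mem h1 h2
    | smul c y _ h1 =>
      rw [map_smul]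
      rw [show c • (TensorProduct.mk B K (B ⊗[A] M) 1 y) =
        (algebraMap B K c) • (TensorProduct.mk B K (B ⊗[A] M) 1 y) from
          (algebraMap_smul K c _).symm, map_smul]
      exact Submodule.smul_mem _ _ h1
  haveI : Module.Finite K (K ⊗[A] M) := Module.Finite.equiv e₁
  rw [← Module.finrank_baseChange (R := K) (S := k) (M' := k ⊗[A] M), e₁.finrank_eq]
  exact (finrank_le_of_span_eq_top h1).trans (by simp)

variable {N : Type u} [AddCommGroup N] [Module A N] [Module B N] [IsScalarTower A B N] {M' : Type u}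
  [AddCommGroup M'] [Module A M']

/-- Generation descends along a faithfully flat base change map. -/
theorem span_eq_top_of_isBaseChange [Module.FaithfullyFlat A B] {φ : M' →ₗ[A] N} (hb : IsBaseChange B φ)
    (S : Set M') (h : Submodule.span B (φ '' S) = ⊤) : Submodule.span A S = ⊤ := by
  refine span_eq_top_of_faithfullyFlat (B := B) S ?_
  apply Submodule.map_injective_of_injective (f := hb.equiv.toLinearMap) hb.equiv.injective
  rw [Submodule.map_top, LinearMap.range_eq_top.2 hb.equiv.surjective, Submodule.map_span, ← h,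
    ← Set.image_comp]
  congr 1
  exact Set.image_congr fun m _ => (hb.equiv_tmul 1 m).trans (one_smul _ _)

/-- The bound on generators, for a base change map. -/
theorem exists_gens_le_of_isBaseChange [IsLocalRing A] [IsLocalRing B] [IsLocalHom (algebraMap A B)]
    [Module.Finite A M'] {φ : M' →ₗ[A] N} (hb : IsBaseChange B φ) {r : ℕ} (w : Fin r → N)
    (hw : Submodule.span B (Set.range w) = ⊤) :
    ∃ (d : ℕ) (v : Fin d → M'), d ≤ r ∧ Submodule.span A (Set.range v) = ⊤ := by
  refine exists_gens_le (fun i => hb.equiv.symm (w i)) ?_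
  apply Submodule.map_injective_of_injective (f := hb.equiv.toLinearMap) hb.equiv.injective
  rw [Submodule.map_top, LinearMap.range_eq_top.2 hb.equiv.surjective, Submodule.map_span, ← hw,
    ← Set.range_comp]
  congr 1
  exact congrArg Set.range (funext fun i => hb.equiv.apply_symm_apply (w i))

end Algebra

variable {X : Scheme.{u}} {M : X.Modules}

/-- The germ of a pulled back section. -/
theorem germ_pbRes {Y : Scheme.{u}} (f : Y ⟶ X) {U : X.Opens} {V : Y.Opens} (e : V ≤ f ⁻¹ᵁ U)
    {z : Y} (hz : z ∈ V) (m : Γ(M, U)) :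
    ((Scheme.Modules.pullback f).obj M).presheaf.germ V z hz
        (_root_.ZarCoh.FlatBC.PullbackSections.pbRes f M e m) =
      DerivedOX.PullbackStalk.unitStalk f z M (M.presheaf.germ U (f.base z) (e hz) m) := by
  let η := (Scheme.Modules.pullbackPushforwardAdjunction f).unit.app M
  refine (TopCat.Presheaf.germ_res_apply _ (homOfLE e) z hz _).trans ?_
  exact ((congrArg (DerivedOX.PullbackStalk.pushStalkMap f z _)
    (StalkModule.stalkMapₗ_germ η (e hz) m)).trans
      (DerivedOX.PullbackStalk.pushStalkMap_germ f z _ (e hz) _)).symm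

/-- Spans of germs spread to a neighbourhood. -/
theorem exists_nhd_mem_span {U : X.Opens} {d : ℕ} (g : Fin d → Γ(M, U)) {x : X} (hx : x ∈ U)
    {v : M.presheaf.stalk x}
    (hv : v ∈ Submodule.span (X.presheaf.stalk x) (Set.range fun i => M.presheaf.germ U x hx (g i))) :
    ∃ (U' : X.Opens) (hx' : x ∈ U') (hle : U' ≤ U) (w : Γ(M, U')), M.presheaf.germ U' x hx' w = v ∧
      ∀ (y : X) (hy : y ∈ U'), M.presheaf.germ U' y hy w ∈
        Submodule.span (X.presheaf.stalk y) (Set.range fun i => M.presheaf.germ U y (hle hy) (g i)) := by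
  induction hv using Submodule.span_induction with
  | mem _ h =>
    obtain ⟨i, rfl⟩ := h
    exact ⟨U, hx, le_rfl, g i, rfl, fun y hy => Submodule.subset_span ⟨i, rfl⟩⟩
  | zero => exact ⟨U, hx, le_rfl, 0, map_zero _, fun y hy => by rw [map_zero]; exact zero_mem _⟩
  | add a b _ _ ha hb =>
    obtain ⟨U₁, h₁, l₁, w₁, e₁, k₁⟩ := ha
    obtain ⟨U₂, h₂, l₂, w₂, e₂, k₂⟩ := hb
    refine ⟨U₁ ⊓ U₂, ⟨h₁, h₂⟩, inf_le_left.trans l₁, M.presheaf.map (homOfLE inf_le_left).op w₁ +
      M.presheaf.map (homOfLE inf_le_right).op w₂, ?_, fun y hy => ?_⟩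
    · rw [map_add, TopCat.Presheaf.germ_res_apply, TopCat.Presheaf.germ_res_apply, e₁, e₂]
    · rw [map_add, TopCat.Presheaf.germ_res_apply, TopCat.Presheaf.germ_res_apply]
      exact add_mem (k₁ y hy.1) (k₂ y hy.2)
  | smul c a _ ha =>
    obtain ⟨U₁, h₁, l₁, w₁, e₁, k₁⟩ := ha
    obtain ⟨U₂, h₂, c, rfl⟩ := TopCat.Presheaf.exists_germ_eq X.presheaf c
    refine ⟨U₁ ⊓ U₂, ⟨h₁, h₂⟩, inf_le_left.trans l₁,
      (X.presheaf.map (homOfLE inf_le_right).op c : Γ(X, U₁ ⊓ U₂)) •
        M.presheaf.map (homOfLE inf_le_left).op w₁, ?_, fun y hy => ?_⟩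
    · rw [StalkModule.germ_smul, TopCat.Presheaf.germ_res_apply, TopCat.Presheaf.germ_res_apply, e₁]
    · rw [StalkModule.germ_smul, TopCat.Presheaf.germ_res_apply, TopCat.Presheaf.germ_res_apply]
      exact Submodule.smul_mem _ _ (k₁ y hy.1)

/-- Generation at a point spreads. -/
theorem exists_span_nhd {W U : X.Opens} {n d : ℕ} (s : Fin n → Γ(M, W)) (g : Fin d → Γ(M, U))
    {x : X} (hxW : x ∈ W) (hxU : x ∈ U)
    (hs : ∀ (y : X) (hy : y ∈ W),
      Submodule.span (X.presheaf.stalk y) (Set.range fun i => M.presheaf.germ W y hy (s i)) = ⊤)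
    (hg : Submodule.span (X.presheaf.stalk x) (Set.range fun i => M.presheaf.germ U x hxU (g i)) = ⊤) :
    ∃ (O : X.Opens) (_ : x ∈ O) (hle : O ≤ U), ∀ (y : X) (hy : y ∈ O),
      Submodule.span (X.presheaf.stalk y) (Set.range fun i => M.presheaf.germ U y (hle hy) (g i)) = ⊤ := by
  have h : ∀ j, ∃ (O : X.Opens) (_ : x ∈ O) (hU : O ≤ U) (hW : O ≤ W), ∀ (y : X) (hy : y ∈ O),
      M.presheaf.germ W y (hW hy) (s j) ∈
        Submodule.span (X.presheaf.stalk y) (Set.range fun i => M.presheaf.germ U y (hU hy) (g i)) := by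
    intro j
    obtain ⟨U', hx', hle, w, hw, k⟩ := exists_nhd_mem_span g hxU (v := M.presheaf.germ W x hxW (s j))
      (hg ▸ Submodule.mem_top)
    obtain ⟨O, hO, i₁, i₂, e⟩ := TopCat.Presheaf.germ_eq M.presheaf x hx' hxW w (s j) hw
    refine ⟨O, hO, (leOfHom i₁).trans hle, leOfHom i₂, fun y hy => ?_⟩
    have e' := congrArg (M.presheaf.germ O y hy) e
    rw [TopCat.Presheaf.germ_res_apply, TopCat.Presheaf.germ_res_apply] at e'
    exact e' ▸ k y (leOfHom i₁ hy)
  choose O hO hU hW hj using h
  refine ⟨Finset.univ.inf O ⊓ (U ⊓ W), ⟨?_, hxU, hxW⟩, inf_le_right.trans inf_le_left, fun y hy => ?_⟩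
  · show x ∈ (↑(Finset.univ.inf O) : Set X)
    rw [Opens.coe_finset_inf, Finset.inf_set_eq_iInter]
    simp only [Set.mem_iInter]
    exact fun i _ => hO i
  · rw [eq_top_iff, ← hs y hy.2.2, Submodule.span_le]
    rintro _ ⟨j, rfl⟩
    exact hj j y (Finset.inf_le (f := O) (Finset.mem_univ j) hy.1)

/-- Sections generating all stalks over `U` give generating sections of `M|_U` of the same number. -/
theorem exists_gen_over (U : X.Opens) {n : ℕ} (t₀ : Fin n → Γ(M, U))
    (ht : ∀ (y : X) (hy : y ∈ U), Submodule.span (X.presheaf.stalk y)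
      (Set.range fun i => M.presheaf.germ U y hy (t₀ i)) = ⊤) :
    ∃ τ : ((show SheafOfModules X.ringCatSheaf from M).over U).GeneratingSections,
      Finite τ.I ∧ Nat.card τ.I ≤ n := by
  have htop : U.ι ''ᵁ ⊤ = U := U.ι_image_top
  let M' := M.restrict U.ι
  let t : Fin n → Γ(M', ⊤) := fun i => M.presheaf.map (eqToHom htop).op (t₀ i)
  have h : ∀ y : (U : Scheme.{u}), Submodule.span ((U : Scheme.{u}).presheaf.stalk y)
      (Set.range fun i => M'.presheaf.germ ⊤ y trivial (t i)) = ⊤ := fun y => by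
    let E := StalkRestrict.restrictStalkAddEquiv U.ι M y
    refine eq_top_iff.mpr fun v _ => ?_
    have h2 := StalkRestrict.span_image_restrictStalkAddEquiv U.ι M y
      (Set.range fun i => M'.presheaf.germ ⊤ y trivial (t i))
    obtain ⟨w, hw, e⟩ : E v ∈ E '' (Submodule.span _
        (Set.range fun i => M'.presheaf.germ ⊤ y trivial (t i)) : Set _) := by
      refine (Set.ext_iff.mp h2 _).mp (Submodule.span_mono ?_
        ((ht (U.ι y) y.2).ge (Submodule.mem_top (x := E v))))
      rintro _ ⟨i, rfl⟩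
      refine ⟨_, ⟨i, rfl⟩, ?_⟩
      refine (StalkRestrict.restrictStalkAddEquiv_germ U.ι M (U := ⊤) trivial _).trans ?_
      exact TopCat.Presheaf.germ_res_apply _ _ _ _ _
    rwa [E.injective e] at hw
  let s : ULift.{u} (Fin n) → SheafOfModules.sections (R := (U : Scheme.{u}).ringCatSheaf) M' := fun i =>
    SheafOfModules.unitHomEquiv M' (Free.unitHom M' (t i.down))
  let F₀ : (U : Scheme.{u}).Modules :=
    SheafOfModules.free (R := (U : Scheme.{u}).ringCatSheaf) (ULift.{u} (Fin n))
  let π : F₀ ⟶ M' := (SheafOfModules.freeHomEquiv M').symm s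
  have hπ : ∀ i : ULift.{u} (Fin n), SheafOfModules.ιFree i ≫ π = Free.unitHom M' (t i.down) := fun i =>
    (SheafOfModules.unitHomEquiv M').injective
      (congrFun ((SheafOfModules.freeHomEquiv M').apply_symm_apply s) i)
  have hepi : Epi π := (Stalk.epi_iff_stalk_surjective π).mpr fun y => by
    suffices hr : LinearMap.range (StalkModule.stalkMapₗ π y) = ⊤ from LinearMap.range_eq_top.mp hr
    rw [eq_top_iff, ← h y, Submodule.span_le]
    rintro _ ⟨i, rfl⟩
    let ι₀ : Coh.structureModule (U : Scheme.{u}) ⟶ F₀ :=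
      SheafOfModules.ιFree (R := (U : Scheme.{u}).ringCatSheaf) (ULift.up i)
    refine ⟨StalkModule.stalkMapₗ ι₀ y
      ((Coh.structureModule (U : Scheme.{u})).presheaf.germ ⊤ y trivial (1 : Γ((U : Scheme.{u}), ⊤))), ?_⟩
    rw [← LinearMap.comp_apply, ← StalkModule.stalkMapₗ_comp, show ι₀ ≫ π = _ from hπ _]
    refine (StalkModule.stalkMapₗ_germ _ _ _).trans ?_
    exact congrArg _ (Free.unitHom_app_one M' _)
  let σ : SheafOfModules.GeneratingSections (R := (U : Scheme.{u}).ringCatSheaf) M' :=
    ⟨ULift.{u} (Fin n), s, ⟨fun a b e => hepi.left_cancellation a b e⟩⟩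
  let E := Scheme.Modules.overEquiv U
  let G : SheafOfModules.{u} (U : Scheme.{u}).ringCatSheaf ⥤
      SheafOfModules.{u} (X.ringCatSheaf.over U) := E.inverse
  haveI : PreservesColimitsOfSize.{u, u} G :=
    Adjunction.leftAdjoint_preservesColimits.{u, u} E.symm.toAdjunction
  let e (N : X.Modules) : E.inverse.obj (N.restrict U.ι) ≅ SheafOfModules.over N U :=
    E.inverse.mapIso ((Scheme.Modules.overFunctorEquiv U).app N).symm ≪≫
      (E.unitIso.app (SheafOfModules.over N U)).symm
  let η := (E.inverse.mapIso (Scheme.Modules.restrictUnitIso U.ι).symm ≪≫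
    e (SheafOfModules.unit X.ringCatSheaf)).symm
  refine ⟨(σ.map G η).ofEpi (e M).hom, inferInstanceAs (Finite (ULift.{u} (Fin n))), le_of_eq ?_⟩
  show Nat.card (ULift.{u} (Fin n)) = n
  rw [Nat.card_congr Equiv.ulift, Nat.card_fin]

end Groth.Agent.Lib.GenDesc51
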